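import Groth.Prelude.Def_LCI2
import Mathlib.Algebra.Category.ModuleCat.ChangeOfRings
import Mathlib.Algebra.Homology.HomotopyCategory.Pretriangulated
import Mathlib.Algebra.Homology.ShortComplex.ModuleCat
import Mathlib.CategoryTheory.Preadditive.AdditiveFunctor
import Mathlib.RingTheory.Flat.Basic
import Mathlib.RingTheory.RingHom.Flat

/-!
# Koszul-regular sequences under flat maps
-/

universe u

open CategoryTheory Limits CochainComplex

namespace GrothLib.KoszulColon

variable {P Q : Type u} [CommRing P] [CommRing Q] (φ : P →+* Q)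

attribute [local instance] preservesBinaryBiproducts_of_preservesBinaryCoproducts in
instance additive_extend : (ModuleCat.extendScalars.{u, u, u} φ).Additive :=
  Functor.additive_of_preservesBinaryBiproducts _

/-- Extension of scalars of complexes. -/
noncomputable abbrev extCx :
    CochainComplex (ModuleCat.{u} P) ℤ ⥤ CochainComplex (ModuleCat.{u} Q) ℤ :=
  (ModuleCat.extendScalars.{u, u, u} φ).mapHomologicalComplex (ComplexShape.up ℤ)

lemma extCx_map_smul (f : P) (K : CochainComplex (ModuleCat.{u} P) ℤ) :
    (extCx φ).map (f • 𝟙 K) = φ f • 𝟙 ((extCx φ).obj K) := by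
  ext i x
  induction x using TensorProduct.induction_on with
  | zero => exact (map_zero _).trans (map_zero _).symm
  | add x y hx hy => exact ((map_add _ x y).trans (congrArg₂ (· + ·) hx hy)).trans (map_add _ x y).symm
  | tmul s m =>
    letI := φ.toAlgebra
    refine (ModuleCat.ExtendScalars.map_tmul φ _ s m).trans ?_
    refine Eq.trans ?_ (ModuleCat.ExtendScalars.smul_tmul φ (φ f) s m).symm
    let s' : Q := s
    show TensorProduct.tmul P s' (f • m) = TensorProduct.tmul P (φ f * s') m
    exact (TensorProduct.smul_tmul f s' m).symm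

/-- Cones of isomorphic multiplications. -/
noncomputable def coneIso {K K' : CochainComplex (ModuleCat.{u} Q) ℤ} (e : K ≅ K') (f : Q) :
    mappingCone (f • 𝟙 K) ≅ mappingCone (f • 𝟙 K') where
  hom := mappingCone.map _ _ e.hom e.hom (by simp)
  inv := mappingCone.map _ _ e.inv e.inv (by simp)
  hom_inv_id := by
    rw [← mappingCone.map_comp]
    simp only [e.hom_inv_id]
    exact mappingCone.map_id _
  inv_hom_id := by
    rw [← mappingCone.map_comp]
    simp only [e.inv_hom_id]
    exact mappingCone.map_id _

theorem nonempty_koszul_iso : ∀ l : List P,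
    Nonempty ((extCx φ).obj (Koszul.koszul P l) ≅ Koszul.koszul Q (l.map φ))
  | [] => by
      refine ⟨(HomologicalComplex.singleMapHomologicalComplex
        (ModuleCat.extendScalars.{u, u, u} φ) (ComplexShape.up ℤ) 0).app (ModuleCat.of P P) ≪≫
        (HomologicalComplex.single _ _ 0).mapIso ?_⟩
      letI := φ.toAlgebra
      exact LinearEquiv.toModuleIso (X₁ := TensorProduct P Q P) (X₂ := Q)
        (TensorProduct.AlgebraTensorModule.rid P Q Q)
  | f :: l => by
      obtain ⟨e⟩ := nonempty_koszul_iso l
      exact ⟨mappingCone.mapHomologicalComplexIso (f • 𝟙 (Koszul.koszul P l))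
          (ModuleCat.extendScalars.{u, u, u} φ) ≪≫
        eqToIso (congrArg (fun g => mappingCone g) (extCx_map_smul φ f (Koszul.koszul P l))) ≪≫
        coneIso e (φ f)⟩

/-- Koszul regularity is preserved by flat ring maps. -/
theorem isKoszulRegularSeq_map (hφ : φ.Flat) (l : List P)
    (h : LCI.IsKoszulRegularSeq P l) :
    LCI.IsKoszulRegularSeq Q (l.map φ) := by
  intro i hi
  letI := φ.toAlgebra
  haveI : Module.Flat P Q := hφ
  obtain ⟨e⟩ := nonempty_koszul_iso φ l
  rw [← HomologicalComplex.exactAt_iff_isZero_homology]
  refine HomologicalComplex.ExactAt.of_iso ?_ e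
  have hex := ((Koszul.koszul P l).exactAt_iff' (i - 1) i (i + 1) (by simp) (by simp)).1
    (((Koszul.koszul P l).exactAt_iff_isZero_homology i).2 (h i hi))
  rw [HomologicalComplex.exactAt_iff' _ (i - 1) i (i + 1) (by simp) (by simp),
    ShortComplex.ShortExact.moduleCat_exact_iff_function_exact]
  rw [ShortComplex.ShortExact.moduleCat_exact_iff_function_exact] at hex
  exact Module.Flat.lTensor_exact (R := P) (M := Q) hex

end GrothLib.KoszulColon
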