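import Groth.Agent.Lib.KoszulColon.Basic
import Groth.Agent.Lib.KoszulColon.BaseChange
import Mathlib.RingTheory.Regular.RegularSequence
import Mathlib.RingTheory.Localization.BaseChange

/-!
# Regular sequences are Koszul regular
-/

universe u

open CategoryTheory Limits CochainComplex RingTheory.Sequence

namespace GrothLib.KoszulColon

variable {Q : Type u} [CommRing Q] {M : Type u} [AddCommGroup M] [Module Q M] (γ : Module.Dual Q M)


/-- Values on the list annihilate the cohomology: homotopy form. -/
lemma exists_homotopy : ∀ (vs : List M) (w : M), w ∈ vs →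
    ∃ σ : ∀ i j : ℤ, (kc γ vs).X j →ₗ[Q] (kc γ vs).X i,
      ∀ i j k : ℤ, i + 1 = j → j + 1 = k → ∀ x : (kc γ vs).X j,
        ((kc γ vs).d i j).hom (σ i j x) + σ j k (((kc γ vs).d j k).hom x) = γ w • x
  | [], w, hw => absurd hw List.not_mem_nil
  | v :: vs, w, hw => by
    classical
    rcases List.mem_cons.1 hw with rfl | hw
    · refine ⟨fun i j => if h : i + 1 = j then
          (in₁ γ w vs i j h).hom.comp (pr₂ γ w vs j).hom else 0, fun i j k hij hjk x => ?_⟩
      simp only [dif_pos hij, dif_pos hjk, LinearMap.comp_apply]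
      rw [d_in₁ γ w vs i j k hij hjk, pr₂_d γ w vs j k hjk, map_add, map_smul, sub_add_add_cancel]
      conv_rhs => rw [pr_decomp γ w vs j k hjk x]
      simp only [smul_add, map_smul]
      abel
    · obtain ⟨σ, hσ⟩ := exists_homotopy vs w hw
      refine ⟨fun i j =>
        -((in₁ γ v vs i (i + 1) rfl).hom.comp ((σ (i + 1) (j + 1)).comp
          (pr₁ γ v vs j (j + 1) rfl).hom)) + (in₂ γ v vs i).hom.comp ((σ i j).comp (pr₂ γ v vs j).hom),
        fun i j k hij hjk x => ?_⟩
      subst hij
      subst hjk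
      simp only [LinearMap.add_apply, LinearMap.neg_apply, LinearMap.comp_apply, map_add, map_neg]
      rw [d_in₁ γ v vs i (i + 1) (i + 1 + 1) rfl rfl, d_in₂,
        pr₁_d γ v vs (i + 1) (i + 1 + 1) (i + 1 + 1 + 1) rfl rfl,
        pr₂_d γ v vs (i + 1) (i + 1 + 1) rfl]
      simp only [map_add, map_neg, map_smul]
      conv_rhs => rw [pr_decomp γ v vs (i + 1) (i + 1 + 1) rfl x]
      have h1 := congrArg (in₁ γ v vs (i + 1) (i + 1 + 1) rfl).hom
        (hσ (i + 1) (i + 1 + 1) (i + 1 + 1 + 1) rfl rfl
          ((pr₁ γ v vs (i + 1) (i + 1 + 1) rfl).hom x))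
      have h2 := congrArg (in₂ γ v vs (i + 1)).hom
        (hσ i (i + 1) (i + 1 + 1) rfl rfl ((pr₂ γ v vs (i + 1)).hom x))
      simp only [map_add, map_neg, map_smul] at h1 h2
      simp only [smul_add, map_smul]
      rw [← h1, ← h2]
      abel

/-- The values of `γ` on the list kill the cohomology. -/
lemma smul_cycle_mem_range (vs : List M) (a : Q) (ha : a ∈ Ideal.span {b | b ∈ vs.map γ})
    (i j k : ℤ) (hij : i + 1 = j) (hjk : j + 1 = k) (x : (kc γ vs).X j)
    (hx : ((kc γ vs).d j k).hom x = 0) :
    a • x ∈ LinearMap.range ((kc γ vs).d i j).hom := by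
  refine (Ideal.span_le (I := Submodule.comap (LinearMap.toSpanSingleton Q _ x)
    (LinearMap.range ((kc γ vs).d i j).hom))).2 ?_ ha
  intro b hb
  obtain ⟨w, hw, rfl⟩ := List.mem_map.1 hb
  obtain ⟨σ, hσ⟩ := exists_homotopy γ vs w hw
  refine ⟨σ i j x, ?_⟩
  have h := hσ i j k hij hjk x
  rw [hx, map_zero, add_zero] at h
  exact h

/-- Exactness outside degree zero of the Koszul complex of a regular sequence. -/
theorem exact_of_isWeaklyRegular : ∀ (vs : List M), IsWeaklyRegular Q (vs.map γ).reverse →
    ∀ i j k : ℤ, i + 1 = j → j + 1 = k → j ≠ 0 → ∀ x : (kc γ vs).X j,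
      ((kc γ vs).d j k).hom x = 0 → ∃ y, ((kc γ vs).d i j).hom y = x
  | [], _, i, j, k, _, _, hj, x, _ => ⟨0, by
      haveI := ModuleCat.subsingleton_of_isZero (isZero_nil γ hj)
      exact Subsingleton.elim _ _⟩
  | v :: vs, hreg, i, j, k, hij, hjk, hj, x, hx => by
    rw [List.map_cons, List.reverse_cons, isWeaklyRegular_append_iff] at hreg
    have ih := exact_of_isWeaklyRegular vs hreg.1
    by_cases hpos : 0 < j
    · exact ⟨0, by rw [map_zero, eq_zero_out γ (v :: vs) j (Or.inl hpos) x]⟩
    have hjneg : j < 0 := lt_of_le_of_ne (not_lt.1 hpos) hj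
    set a := (pr₁ γ v vs j k hjk).hom x with ha
    set b := (pr₂ γ v vs j).hom x with hb
    have h1 : ((kc γ vs).d k (k + 1)).hom a = 0 := by
      have := pr₁_d γ v vs j k (k + 1) hjk rfl x
      rw [hx, map_zero] at this
      exact neg_eq_zero.1 this.symm
    have h2 : γ v • a + ((kc γ vs).d j k).hom b = 0 := by
      rw [ha, hb, ← pr₂_d γ v vs j k hjk, hx, map_zero]
    have hex : ∃ a', ((kc γ vs).d j k).hom a' = a := by
      by_cases hk : k = 0
      · subst hk
        obtain rfl : j = -1 := by omega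
        obtain ⟨r, hr⟩ := exists_smul_unit γ vs a
        have hmem : r • γ v ∈ Ideal.span {b | b ∈ vs.map γ} := by
          have h3 := map_mem_smul_top (((ExteriorAlgebra.algebraMapInv (R := Q) (M := M)).toLinearMap).comp
            (phi γ vs 0)) (d_mem γ vs (-1) 0 (by omega) (-b))
          rw [map_neg, ← eq_neg_of_add_eq_zero_left h2, hr, smul_smul] at h3
          simp only [map_smul, LinearMap.comp_apply, phi_unit, AlgHom.toLinearMap_apply, map_one,
            smul_eq_mul, mul_one, Ideal.mul_top] at h3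
          rwa [smul_eq_mul, mul_comm]
        have hr' : r ∈ Ideal.span {b | b ∈ vs.map γ} := by
          have hsmul := ((isWeaklyRegular_cons_iff _ _ _).1 hreg.2).1
          have hspan : Ideal.ofList (vs.map γ).reverse • (⊤ : Submodule Q Q) =
              Ideal.span {b | b ∈ vs.map γ} := by
            rw [smul_eq_mul, Ideal.mul_top, Ideal.ofList]
            simp [Set.ext_iff]
          have h0 := hsmul (a₁ := (Submodule.Quotient.mk r : Q ⧸ _)) (a₂ := 0) (by
            show γ v • Submodule.Quotient.mk r = γ v • (0 : Q ⧸ _)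
            rw [smul_zero, ← Submodule.Quotient.mk_smul, Submodule.Quotient.mk_eq_zero, hspan,
              smul_eq_mul, mul_comm]
            exact hmem)
          rwa [Submodule.Quotient.mk_eq_zero, hspan] at h0
        obtain ⟨y, hy⟩ := smul_unit_mem_range γ vs r hr'
        exact ⟨y, hy.trans hr.symm⟩
      · exact ih j k (k + 1) hjk rfl hk a h1
    obtain ⟨a', ha'⟩ := hex
    obtain ⟨b', hb'⟩ := ih i j k hij hjk hj (γ v • a' + b) (by rw [map_add, map_smul, ha', h2])
    refine ⟨(in₁ γ v vs i j hij).hom (-a') + (in₂ γ v vs i).hom b', ?_⟩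
    rw [map_add, d_in₁ γ v vs i j k hij hjk, d_in₂, hb', map_neg, ha', pr_decomp γ v vs j k hjk x,
      ← ha, ← hb]
    simp only [map_add, map_neg, map_smul, smul_neg]
    abel

variable {P : Type u} [CommRing P]

/-- A sequence whose reverse is weakly regular is Koszul regular. -/
theorem isKoszulRegularSeq_of_isWeaklyRegular (l : List P) (h : IsWeaklyRegular P l.reverse) :
    LCI.IsKoszulRegularSeq P l := by
  intro i hi
  rw [← HomologicalComplex.exactAt_iff_isZero_homology,
    HomologicalComplex.exactAt_iff' _ (i - 1) i (i + 1) (by simp) (by simp),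
    ShortComplex.moduleCat_exact_iff]
  have hl : l.map (LinearMap.id : Module.Dual P P) = l := by simp
  have := exact_of_isWeaklyRegular (LinearMap.id : Module.Dual P P) l (by rwa [hl])
  rw [show kc (LinearMap.id : Module.Dual P P) l = Koszul.koszul P l from congrArg _ hl] at this
  exact fun x hx => this (i - 1) i (i + 1) (by omega) rfl hi x hx

open TensorProduct in
/-- A base change which is exact, in terms of tensor products. -/
theorem exact_lTensor_of_koszul (A : Type u) [CommRing A] [inst : Algebra P A] (φ : P →+* A)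
    (hφ : ∀ r, algebraMap P A r = φ r) (l : List P) (i : ℤ)
    (h : (Koszul.koszul A (l.map φ)).ExactAt i) :
    Function.Exact (((Koszul.koszul P l).d (i - 1) i).hom.lTensor A)
      (((Koszul.koszul P l).d i (i + 1)).hom.lTensor A) := by
  obtain rfl : inst = φ.toAlgebra := Algebra.algebra_ext _ _ hφ
  obtain ⟨e⟩ := nonempty_koszul_iso φ l
  have hex := h.of_iso e.symm
  rw [HomologicalComplex.exactAt_iff' _ (i - 1) i (i + 1) (by simp) (by simp),
    ShortComplex.ShortExact.moduleCat_exact_iff_function_exact] at hex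
  exact hex

open TensorProduct in
/-- Koszul regularity may be checked at the primes containing the sequence. -/
theorem isKoszulRegularSeq_of_localized (l : List P)
    (h : ∀ q : Ideal P, ∀ _ : q.IsPrime, Ideal.ofList l ≤ q →
      LCI.IsKoszulRegularSeq (Localization.AtPrime q) (l.map (algebraMap P (Localization.AtPrime q)))) :
    LCI.IsKoszulRegularSeq P l := by
  intro i hi
  rw [← HomologicalComplex.exactAt_iff_isZero_homology,
    HomologicalComplex.exactAt_iff' _ (i - 1) i (i + 1) (by simp) (by simp),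
    ShortComplex.moduleCat_exact_iff]
  suffices H : ∀ x : (Koszul.koszul P l).X i, ((Koszul.koszul P l).d i (i + 1)).hom x = 0 →
      ∃ y, ((Koszul.koszul P l).d (i - 1) i).hom y = x from H
  intro x hx
  let J : Ideal P := Submodule.comap (LinearMap.toSpanSingleton P _ x)
    (LinearMap.range ((Koszul.koszul P l).d (i - 1) i).hom)
  suffices hJ : J = ⊤ by
    have h1 : (1 : P) ∈ J := hJ ▸ Submodule.mem_top
    have h2 : ((1 : P) • x) ∈ LinearMap.range ((Koszul.koszul P l).d (i - 1) i).hom := h1
    rw [one_smul] at h2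
    exact h2
  by_contra hJ
  obtain ⟨q, hq, hJq⟩ := Ideal.exists_le_maximal _ hJ
  haveI := hq.isPrime
  have hlJ : Ideal.ofList l ≤ J := by
    intro a ha
    have hl : l.map (LinearMap.id : Module.Dual P P) = l := by simp
    have := smul_cycle_mem_range (LinearMap.id : Module.Dual P P) l a (by rw [hl]; exact ha)
      (i - 1) i (i + 1) (by omega) rfl
    rw [show kc (LinearMap.id : Module.Dual P P) l = Koszul.koszul P l from congrArg _ hl] at this
    exact this x hx
  let A := Localization.AtPrime q
  let φ : P →+* A := algebraMap P A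
  have hex'' := exact_lTensor_of_koszul A φ (fun _ => rfl) l i
    ((HomologicalComplex.exactAt_iff_isZero_homology _ i).2 (h q inferInstance (hlJ.trans hJq) i hi))
  obtain ⟨y, hy⟩ := (hex'' ((1 : A) ⊗ₜ x)).1 (by simp [hx])
  haveI : ∀ N : ModuleCat.{u} P, IsLocalizedModule q.primeCompl (TensorProduct.mk P A N 1) :=
    fun N => (isLocalizedModule_iff_isBaseChange q.primeCompl A _).2 (TensorProduct.isBaseChange P N A)
  obtain ⟨⟨y₀, s⟩, hs⟩ := IsLocalizedModule.surj q.primeCompl
    (TensorProduct.mk P A ((Koszul.koszul P l).X (i - 1)) 1) y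
  have h1 : TensorProduct.mk P A ((Koszul.koszul P l).X i) 1
      (((Koszul.koszul P l).d (i - 1) i).hom y₀) =
      TensorProduct.mk P A ((Koszul.koszul P l).X i) 1 ((s : P) • x) := by
    show ((Koszul.koszul P l).d (i - 1) i).hom.lTensor A ((1 : A) ⊗ₜ y₀) = (1 : A) ⊗ₜ ((s : P) • x)
    rw [show (1 : A) ⊗ₜ[P] y₀ = (s : P) • y from hs.symm, map_smul, hy, tmul_smul]
  obtain ⟨t, ht⟩ := (IsLocalizedModule.eq_iff_exists q.primeCompl _).1 h1
  refine (q.primeCompl.mul_mem t.2 s.2) (hJq (⟨(t : P) • y₀, ?_⟩ : (t : P) * s ∈ J))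
  rw [map_smul]
  show (t : P) • _ = ((t : P) * s) • x
  rw [mul_smul]
  exact ht

end GrothLib.KoszulColon
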