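import Groth.Agent.Lib.KoszulFwd
import Mathlib.Algebra.Homology.DerivedCategory.Basic
import Mathlib.Algebra.Category.ModuleCat.ChangeOfRings

/-!
# Concatenation of Koszul regular sequences
-/

universe u

open CategoryTheory Limits CochainComplex

namespace GrothLib.KoszulColon

variable {A : Type u} [CommRing A]

/-- Cones of multiplications by a scalar preserve quasi-isomorphisms. -/
theorem quasiIso_coneMap {K K' : CochainComplex (ModuleCat.{u} A) ℤ} (f : A) (e : K ⟶ K') [QuasiIso e]
    (comm : (f • 𝟙 K) ≫ e = e ≫ (f • 𝟙 K')) :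
    QuasiIso (mappingCone.map (f • 𝟙 K) (f • 𝟙 K') e e comm) := by
  letI := HasDerivedCategory.standard (ModuleCat.{u} A)
  rw [← DerivedCategory.isIso_Q_map_iff_quasiIso (ModuleCat.{u} A)]
  have he : IsIso (DerivedCategory.Q.map e) := (DerivedCategory.isIso_Q_map_iff_quasiIso _ e).2 inferInstance
  exact Pretriangulated.isIso₃_of_isIso₁₂
    (DerivedCategory.Q.mapTriangle.map (mappingCone.triangleMap (f • 𝟙 K) (f • 𝟙 K') e e comm))
    (DerivedCategory.mappingCone_triangle_distinguished _) (DerivedCategory.mappingCone_triangle_distinguished _) he he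

/-- Restriction of scalars to `A`, on complexes. -/
noncomputable abbrev resCx (I : Ideal A) :
    CochainComplex (ModuleCat.{u} (A ⧸ I)) ℤ ⥤ CochainComplex (ModuleCat.{u} A) ℤ :=
  (ModuleCat.restrictScalars.{u} (Ideal.Quotient.mk I)).mapHomologicalComplex (ComplexShape.up ℤ)

theorem exists_quasiIso_append (l : List A) (hl : LCI.IsKoszulRegularSeq A l) : ∀ m : List A,
    ∃ q : Koszul.koszul A (m ++ l) ⟶
        (resCx (Ideal.ofList l)).obj (Koszul.koszul (A ⧸ Ideal.ofList l) (m.map (Ideal.Quotient.mk (Ideal.ofList l)))),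
      QuasiIso q
  | [] => by
      let K := Koszul.koszul A l
      obtain ⟨e₀⟩ := GrothLib.KoszulFwd.nonempty_homology_zero_iso (LinearMap.id : Module.Dual A A) l
      have hl' : l.map (LinearMap.id : Module.Dual A A) = l := by simp
      rw [show kc (LinearMap.id : Module.Dual A A) l = K from congrArg _ hl', hl'] at e₀
      have hz : IsZero (K.X 1) := by
        have := isZero_out (LinearMap.id : Module.Dual A A) l 1 (Or.inl one_pos)
        rwa [show kc (LinearMap.id : Module.Dual A A) l = K from congrArg _ hl'] at this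
      have hd : K.d 0 1 = 0 := hz.eq_of_tgt _ _
      let e₁ : K.opcycles 0 ≅ ModuleCat.of A (A ⧸ Ideal.ofList l) :=
        (K.isoHomologyι 0 1 (by simp) hd).symm ≪≫ e₀
      let h : K.X 0 ⟶ ModuleCat.of A (A ⧸ Ideal.ofList l) := K.pOpcycles 0 ≫ e₁.hom
      have hh : ∀ i : ℤ, (ComplexShape.up ℤ).Rel i 0 → K.d i 0 ≫ h = 0 := fun i _ => by
        rw [HomologicalComplex.d_pOpcycles_assoc, zero_comp]
      let Y : ModuleCat.{u} A := (ModuleCat.restrictScalars.{u} (Ideal.Quotient.mk (Ideal.ofList l))).obj
        (ModuleCat.of (A ⧸ Ideal.ofList l) (A ⧸ Ideal.ofList l))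
      let s : ModuleCat.of A (A ⧸ Ideal.ofList l) ≅ Y :=
        (@AddEquiv.toLinearEquiv A ↑(ModuleCat.of A (A ⧸ Ideal.ofList l)) ↑Y _ _ _ _ Y.isModule (by rfl)
          (fun r x => by exact Algebra.smul_def r x)).toModuleIso
      let q : K ⟶ (HomologicalComplex.single (ModuleCat.{u} A) (ComplexShape.up ℤ) 0).obj (ModuleCat.of A (A ⧸ Ideal.ofList l)) :=
        HomologicalComplex.mkHomToSingle h hh
      have hq : QuasiIso q := ⟨fun i => by
        by_cases hi : i = 0
        · subst hi
          rw [quasiIsoAt_iff' q (-1) 0 1 (by simp) (by simp),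
            ShortComplex.quasiIso_iff_of_zeros' _ hd rfl rfl]
          have hτ : ((HomologicalComplex.shortComplexFunctor' (ModuleCat.{u} A) (ComplexShape.up ℤ) (-1) 0 1).map q).τ₂ =
              h ≫ (HomologicalComplex.singleObjXSelf (ComplexShape.up ℤ) 0 _).inv :=
            HomologicalComplex.mkHomToSingle_f h hh
          constructor
          · exact ShortComplex.exact_of_g_is_cokernel _
              (IsColimit.ofIsoColimit (K.opcyclesIsCokernel (-1) 0 (by simp))
                (Cofork.ext (e₁ ≪≫ (HomologicalComplex.singleObjXSelf (ComplexShape.up ℤ) 0 _).symm) (by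
                  show K.pOpcycles 0 ≫ e₁.hom ≫ _ = _
                  rw [← Category.assoc]; exact hτ.symm)))
          · rw [hτ]
            show Epi ((K.pOpcycles 0 ≫ e₁.hom) ≫ _)
            infer_instance
        · rw [quasiIsoAt_iff_exactAt' q i (HomologicalComplex.exactAt_single_obj _ _ _ i hi)]
          exact (K.exactAt_iff_isZero_homology i).2 (hl i hi)⟩
      haveI := hq
      let t := (HomologicalComplex.single (ModuleCat.{u} A) (ComplexShape.up ℤ) 0).mapIso s ≪≫
        ((HomologicalComplex.singleMapHomologicalComplex (ModuleCat.restrictScalars.{u} (Ideal.Quotient.mk (Ideal.ofList l)))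
          (ComplexShape.up ℤ) 0).symm.app (ModuleCat.of (A ⧸ Ideal.ofList l) (A ⧸ Ideal.ofList l)))
      haveI : QuasiIso t.hom := inferInstance
      exact ⟨q ≫ t.hom, quasiIso_comp q t.hom⟩
  | f :: m => by
      obtain ⟨q, hq⟩ := exists_quasiIso_append l hl m
      let R := ModuleCat.restrictScalars.{u} (Ideal.Quotient.mk (Ideal.ofList l))
      let L := Koszul.koszul (A ⧸ Ideal.ofList l) (m.map (Ideal.Quotient.mk (Ideal.ofList l)))
      have hmap : (resCx (Ideal.ofList l)).map (Ideal.Quotient.mk (Ideal.ofList l) f • 𝟙 L) =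
          f • 𝟙 ((resCx (Ideal.ofList l)).obj L) := by
        ext i x
        rfl
      have comm : (f • 𝟙 (Koszul.koszul A (m ++ l))) ≫ q = q ≫ (f • 𝟙 ((resCx (Ideal.ofList l)).obj L)) := by
        rw [Linear.smul_comp, Linear.comp_smul, Category.id_comp, Category.comp_id]
      haveI hc := quasiIso_coneMap f q comm
      let t := eqToIso (congrArg (fun g => mappingCone g) hmap.symm) ≪≫
        (mappingCone.mapHomologicalComplexIso (Ideal.Quotient.mk (Ideal.ofList l) f • 𝟙 L) R).symm
      haveI : QuasiIso t.hom := inferInstance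
      exact ⟨mappingCone.map _ _ q q comm ≫ t.hom, quasiIso_comp (mappingCone.map _ _ q q comm) t.hom⟩

/-- Koszul regular sequences concatenate. -/
theorem isKoszulRegularSeq_append (l m : List A) (hl : LCI.IsKoszulRegularSeq A l)
    (hm : LCI.IsKoszulRegularSeq (A ⧸ Ideal.ofList l) (m.map (Ideal.Quotient.mk (Ideal.ofList l)))) :
    LCI.IsKoszulRegularSeq A (m ++ l) := by
  intro i hi
  obtain ⟨q, hq⟩ := exists_quasiIso_append l hl m
  rw [← HomologicalComplex.exactAt_iff_isZero_homology, exactAt_iff_of_quasiIsoAt q i]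
  have := ((Koszul.koszul _ _).exactAt_iff_isZero_homology i).2 (hm i hi)
  rw [HomologicalComplex.exactAt_iff' _ (i - 1) i (i + 1) (by simp) (by simp),
    ShortComplex.ShortExact.moduleCat_exact_iff_function_exact] at this ⊢
  exact this

end GrothLib.KoszulColon
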