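import Groth.Prelude.Def_LCI2
import Mathlib.LinearAlgebra.ExteriorAlgebra.Basis
import Mathlib.LinearAlgebra.CliffordAlgebra.Contraction
import Mathlib.LinearAlgebra.Determinant
import Mathlib.Algebra.Homology.ShortComplex.ModuleCat
import Mathlib.Algebra.Module.Projective

/-!
# The colon ideal of two systems of generators related by a matrix

If `f = c g` and `f` has an exact Koszul complex then `((f) : (g)) = (f) + (det c)`.
The comparison map from the (cone model) Koszul complex on `f` to the exterior algebra with the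
contraction by `g` is built recursively; no isomorphism of models is needed.
-/

universe u

open CategoryTheory Limits CochainComplex CochainComplex.HomComplex

namespace GrothLib.KoszulColon

variable {Q : Type u} [CommRing Q] {M : Type u} [AddCommGroup M] [Module Q M] (γ : Module.Dual Q M)

/-- The Koszul complex on the values of `γ` at a list of vectors. -/
noncomputable abbrev kc (vs : List M) : CochainComplex (ModuleCat.{u} Q) ℤ :=
  Koszul.koszul Q (vs.map γ)

/-- The map defining the cone. -/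
noncomputable abbrev cmap (v : M) (vs : List M) : kc γ vs ⟶ kc γ vs := γ v • 𝟙 (kc γ vs)

/-- First projection. -/
noncomputable abbrev pr₁ (v : M) (vs : List M) (i j : ℤ) (h : i + 1 = j) :
    (kc γ (v :: vs)).X i ⟶ (kc γ vs).X j :=
  (mappingCone.fst (cmap γ v vs)).1.v i j h

/-- Second projection. -/
noncomputable abbrev pr₂ (v : M) (vs : List M) (i : ℤ) :
    (kc γ (v :: vs)).X i ⟶ (kc γ vs).X i :=
  (mappingCone.snd (cmap γ v vs)).v i i (add_zero i)

/-- First inclusion. -/
noncomputable abbrev in₁ (v : M) (vs : List M) (i j : ℤ) (h : i + 1 = j) :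
    (kc γ vs).X j ⟶ (kc γ (v :: vs)).X i :=
  (mappingCone.inl (cmap γ v vs)).v j i (by omega)

/-- Second inclusion. -/
noncomputable abbrev in₂ (v : M) (vs : List M) (i : ℤ) :
    (kc γ vs).X i ⟶ (kc γ (v :: vs)).X i :=
  (mappingCone.inr (cmap γ v vs)).f i

section Projections

variable (v : M) (vs : List M)

lemma pr₁_d (i j k : ℤ) (hij : i + 1 = j) (hjk : j + 1 = k) (x : (kc γ (v :: vs)).X i) :
    (pr₁ γ v vs j k hjk).hom (((kc γ (v :: vs)).d i j).hom x) =
      -((kc γ vs).d j k).hom ((pr₁ γ v vs i j hij).hom x) :=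
  congrArg (fun g => g.hom x) (mappingCone.d_fst_v (cmap γ v vs) i j k hij hjk)

lemma pr₂_d (i j : ℤ) (hij : i + 1 = j) (x : (kc γ (v :: vs)).X i) :
    (pr₂ γ v vs j).hom (((kc γ (v :: vs)).d i j).hom x) =
      γ v • (pr₁ γ v vs i j hij).hom x + ((kc γ vs).d i j).hom ((pr₂ γ v vs i).hom x) :=
  congrArg (fun g => g.hom x) (mappingCone.d_snd_v (cmap γ v vs) i j hij)

lemma pr_decomp (i j : ℤ) (h : i + 1 = j) (x : (kc γ (v :: vs)).X i) :
    x = (in₁ γ v vs i j h).hom ((pr₁ γ v vs i j h).hom x) +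
      (in₂ γ v vs i).hom ((pr₂ γ v vs i).hom x) :=
  (congrArg (fun g => g.hom x) (mappingCone.id_X (cmap γ v vs) i j h)).symm

lemma pr₁_in₁ (i j : ℤ) (h : i + 1 = j) (a : (kc γ vs).X j) :
    (pr₁ γ v vs i j h).hom ((in₁ γ v vs i j h).hom a) = a :=
  congrArg (fun g => g.hom a) (mappingCone.inl_v_fst_v (cmap γ v vs) j i h)

lemma pr₂_in₁ (i j : ℤ) (h : i + 1 = j) (a : (kc γ vs).X j) :
    (pr₂ γ v vs i).hom ((in₁ γ v vs i j h).hom a) = 0 :=
  congrArg (fun g => g.hom a) (mappingCone.inl_v_snd_v (cmap γ v vs) j i (by omega))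

lemma pr₁_in₂ (i j : ℤ) (h : i + 1 = j) (a : (kc γ vs).X i) :
    (pr₁ γ v vs i j h).hom ((in₂ γ v vs i).hom a) = 0 :=
  congrArg (fun g => g.hom a) (mappingCone.inr_f_fst_v (cmap γ v vs) i j h)

lemma pr₂_in₂ (i : ℤ) (a : (kc γ vs).X i) :
    (pr₂ γ v vs i).hom ((in₂ γ v vs i).hom a) = a :=
  congrArg (fun g => g.hom a) (mappingCone.inr_f_snd_v (cmap γ v vs) i)

lemma d_in₁ (i j k : ℤ) (hij : i + 1 = j) (hjk : j + 1 = k) (a : (kc γ vs).X j) :
    ((kc γ (v :: vs)).d i j).hom ((in₁ γ v vs i j hij).hom a) =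
      (in₂ γ v vs j).hom (γ v • a) - (in₁ γ v vs j k hjk).hom (((kc γ vs).d j k).hom a) :=
  congrArg (fun g => g.hom a)
    (mappingCone.inl_v_d (cmap γ v vs) j i k (by omega) (by omega))

lemma d_in₂ (i j : ℤ) (a : (kc γ vs).X i) :
    ((kc γ (v :: vs)).d i j).hom ((in₂ γ v vs i).hom a) =
      (in₂ γ v vs j).hom (((kc γ vs).d i j).hom a) :=
  congrArg (fun g => g.hom a) (mappingCone.inr_f_d (cmap γ v vs) i j)

end Projections

/-- The degree zero term of the empty Koszul complex. -/
noncomputable def unitIso : (kc γ ([] : List M)).X 0 ≅ ModuleCat.of Q Q :=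
  HomologicalComplex.singleObjXSelf (ComplexShape.up ℤ) 0 (ModuleCat.of Q Q)

lemma isZero_nil {i : ℤ} (h : i ≠ 0) : IsZero ((kc γ ([] : List M)).X i) :=
  HomologicalComplex.isZero_single_obj_X (ComplexShape.up ℤ) 0 (ModuleCat.of Q Q) i h

lemma isZero_out : ∀ (vs : List M) (i : ℤ), 0 < i ∨ i + vs.length < 0 → IsZero ((kc γ vs).X i)
  | [], i, h => isZero_nil γ (by simp at h; omega)
  | v :: vs, i, h => (mappingCone.isZero_X_iff (cmap γ v vs) i).2
      ⟨isZero_out vs (i + 1) (by simp at h ⊢; omega), isZero_out vs i (by simp at h ⊢; omega)⟩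

lemma eq_zero_out (vs : List M) (i : ℤ) (h : 0 < i ∨ i + vs.length < 0) (x : (kc γ vs).X i) :
    x = 0 :=
  haveI := ModuleCat.subsingleton_of_isZero (isZero_out γ vs i h)
  Subsingleton.elim _ _

lemma free_kc : ∀ (vs : List M) (i : ℤ), Module.Free Q ((kc γ vs).X i)
  | [], i => by
      by_cases h : i = 0
      · subst h
        exact Module.Free.of_equiv (unitIso γ).toLinearEquiv.symm
      · haveI := ModuleCat.subsingleton_of_isZero (isZero_nil γ h)
        exact Module.Free.of_subsingleton Q _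
  | v :: vs, i => by
      haveI := free_kc vs i
      haveI := free_kc vs (i + 1)
      let e : ((kc γ vs).X (i + 1) × (kc γ vs).X i) ≃ₗ[Q] (kc γ (v :: vs)).X i :=
        { toFun := fun p => (in₁ γ v vs i (i + 1) rfl).hom p.1 + (in₂ γ v vs i).hom p.2
          map_add' := fun p q => by simp only [Prod.fst_add, Prod.snd_add, map_add]; abel
          map_smul' := fun r p => by
            simp only [Prod.smul_fst, Prod.smul_snd, map_smul, smul_add, RingHom.id_apply]
          invFun := fun x => ((pr₁ γ v vs i (i + 1) rfl).hom x, (pr₂ γ v vs i).hom x)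
          left_inv := fun p => by
            refine Prod.ext ?_ ?_
            · show (pr₁ γ v vs i (i + 1) rfl).hom (_ + _) = p.1
              rw [map_add, pr₁_in₁, pr₁_in₂, add_zero]
            · show (pr₂ γ v vs i).hom (_ + _) = p.2
              rw [map_add, pr₂_in₁, pr₂_in₂, zero_add]
          right_inv := fun x => (pr_decomp γ v vs i (i + 1) rfl x).symm }
      exact Module.Free.of_equiv e

/-- The comparison map into the exterior algebra. -/
noncomputable def phi : ∀ (vs : List M) (i : ℤ), (kc γ vs).X i →ₗ[Q] ExteriorAlgebra Q M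
  | [], i => if h : i = 0 then
      (Algebra.linearMap Q (ExteriorAlgebra Q M)).comp (h ▸ (unitIso γ).hom.hom) else 0
  | v :: vs, i =>
      (LinearMap.mulLeft Q (ExteriorAlgebra.ι Q v)).comp
        ((phi vs (i + 1)).comp (pr₁ γ v vs i (i + 1) rfl).hom) +
      (phi vs i).comp (pr₂ γ v vs i).hom

lemma phi_cons (v : M) (vs : List M) (i j : ℤ) (h : i + 1 = j) (x : (kc γ (v :: vs)).X i) :
    phi γ (v :: vs) i x = ExteriorAlgebra.ι Q v * phi γ vs j ((pr₁ γ v vs i j h).hom x) +
      phi γ vs i ((pr₂ γ v vs i).hom x) := by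
  subst h; rfl

/-- `phi` commutes with the differentials. -/
lemma phi_d : ∀ (vs : List M) (i j : ℤ), i + 1 = j → ∀ x : (kc γ vs).X i,
    phi γ vs j (((kc γ vs).d i j).hom x) = CliffordAlgebra.contractLeft γ (phi γ vs i x)
  | [], i, j, hij, x => by
      by_cases hi : i = 0
      · subst hi
        rw [show ((kc γ ([] : List M)).d 0 j).hom x = 0 from by
          have : (kc γ ([] : List M)).d 0 j = 0 := (isZero_nil γ (by omega)).eq_of_tgt _ _
          rw [this]; rfl, map_zero]
        exact (CliffordAlgebra.contractLeft_algebraMap _ γ _).symm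
      · haveI := ModuleCat.subsingleton_of_isZero (isZero_nil γ hi)
        rw [Subsingleton.elim x 0]
        simp
  | v :: vs, i, j, hij, x => by
      rw [phi_cons γ v vs j (j + 1) rfl, phi_cons γ v vs i j hij, pr₁_d γ v vs i j (j + 1) hij rfl,
        pr₂_d γ v vs i j hij, map_neg, map_add, map_smul, phi_d vs j (j + 1) rfl,
        phi_d vs i j hij, map_add, mul_neg]
      rw [show ExteriorAlgebra.ι Q v = CliffordAlgebra.ι (0 : QuadraticForm Q M) v from rfl,
        CliffordAlgebra.contractLeft_ι_mul]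
      abel

/-- The unit in degree zero. -/
noncomputable def unit : ∀ vs : List M, (kc γ vs).X 0
  | [] => (unitIso γ).inv.hom (1 : Q)
  | v :: vs => (in₂ γ v vs 0).hom (unit vs)

lemma phi_unit : ∀ vs : List M, phi γ vs 0 (unit γ vs) = 1
  | [] => by
      show (Algebra.linearMap Q (ExteriorAlgebra Q M)) ((unitIso γ).hom.hom ((unitIso γ).inv.hom 1)) = 1
      rw [show (unitIso γ).hom.hom ((unitIso γ).inv.hom 1) = (1 : Q) from
        congrArg (fun g => g.hom (1 : Q)) (unitIso γ).inv_hom_id]
      exact map_one (algebraMap Q (ExteriorAlgebra Q M))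
  | v :: vs => by
      rw [phi_cons γ v vs 0 1 (by omega)]
      show ExteriorAlgebra.ι Q v * phi γ vs 1 ((pr₁ γ v vs 0 1 (by omega)).hom ((in₂ γ v vs 0).hom _)) +
        phi γ vs 0 ((pr₂ γ v vs 0).hom ((in₂ γ v vs 0).hom _)) = 1
      rw [pr₁_in₂, pr₂_in₂, map_zero, mul_zero, zero_add, phi_unit vs]

lemma exists_smul_unit : ∀ (vs : List M) (x : (kc γ vs).X 0), ∃ r : Q, x = r • unit γ vs
  | [], x => ⟨(unitIso γ).hom.hom x, by
      show x = _ • (unitIso γ).inv.hom (1 : Q)
      rw [← map_smul, smul_eq_mul, mul_one]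
      exact (congrArg (fun g => g.hom x) (unitIso γ).hom_inv_id).symm⟩
  | v :: vs, x => by
      obtain ⟨r, hr⟩ := exists_smul_unit vs ((pr₂ γ v vs 0).hom x)
      refine ⟨r, ?_⟩
      conv_lhs => rw [pr_decomp γ v vs 0 1 (by omega) x]
      rw [eq_zero_out γ vs 1 (Or.inl (by omega)) ((pr₁ γ v vs 0 1 (by omega)).hom x), map_zero,
        zero_add, hr, map_smul]
      rfl

/-- The values of `γ` kill the unit in homology. -/
lemma smul_unit_mem_range : ∀ (vs : List M) (a : Q), a ∈ Ideal.span {b | b ∈ vs.map γ} →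
    a • unit γ vs ∈ LinearMap.range ((kc γ vs).d (-1) 0).hom
  | [], a, ha => by
      rw [show a = 0 by simpa using ha, zero_smul]
      exact Submodule.zero_mem _
  | v :: vs, a, ha => by
      let N : Ideal Q := Submodule.comap (LinearMap.toSpanSingleton Q _ (unit γ (v :: vs)))
        (LinearMap.range ((kc γ (v :: vs)).d (-1) 0).hom)
      refine (Ideal.span_le (I := N)).2 ?_ ha
      intro b hb
      show b • unit γ (v :: vs) ∈ LinearMap.range ((kc γ (v :: vs)).d (-1) 0).hom
      rcases List.mem_cons.1 (by simpa using hb : b ∈ γ v :: vs.map γ) with rfl | hb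
      · refine ⟨(in₁ γ v vs (-1) 0 (by omega)).hom (unit γ vs), ?_⟩
        rw [d_in₁ γ v vs (-1) 0 1 (by omega) (by omega),
          eq_zero_out γ vs 1 (Or.inl (by omega)) (((kc γ vs).d 0 1).hom (unit γ vs)), map_zero,
          sub_zero, map_smul]
        rfl
      · obtain ⟨y, hy⟩ := smul_unit_mem_range vs b (Ideal.subset_span hb)
        refine ⟨(in₂ γ v vs (-1)).hom y, ?_⟩
        rw [d_in₂ γ v vs (-1) 0, hy, map_smul]
        rfl

lemma map_mem_smul_top {N N' : Type u} [AddCommGroup N] [Module Q N] [AddCommGroup N'] [Module Q N']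
    (g : N →ₗ[Q] N') {I : Ideal Q} {x : N} (hx : x ∈ I • (⊤ : Submodule Q N)) :
    g x ∈ I • (⊤ : Submodule Q N') := by
  have h := Submodule.mem_map_of_mem (f := g) hx
  rw [Submodule.map_smul''] at h
  exact Submodule.smul_mono le_rfl le_top h

/-- The differentials vanish modulo the values of `γ`. -/
lemma d_mem : ∀ (vs : List M) (i j : ℤ), i + 1 = j → ∀ x : (kc γ vs).X i,
    ((kc γ vs).d i j).hom x ∈ Ideal.span {b | b ∈ vs.map γ} • (⊤ : Submodule Q ((kc γ vs).X j))
  | [], i, j, hij, x => by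
      have : (kc γ ([] : List M)).d i j = 0 := by
        by_cases hi : i = 0
        · exact (isZero_nil γ (by omega)).eq_of_tgt _ _
        · exact (isZero_nil γ hi).eq_of_src _ _
      rw [this]
      exact Submodule.zero_mem _
  | v :: vs, i, j, hij, x => by
      have hle : Ideal.span {b | b ∈ vs.map γ} ≤ Ideal.span {b | b ∈ (v :: vs).map γ} :=
        Ideal.span_mono fun b hb => List.mem_cons_of_mem _ hb
      rw [pr_decomp γ v vs j (j + 1) rfl (((kc γ (v :: vs)).d i j).hom x),
        pr₁_d γ v vs i j (j + 1) hij rfl, pr₂_d γ v vs i j hij, map_neg, map_add, map_smul]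
      refine Submodule.add_mem _ (Submodule.neg_mem _ ?_) (Submodule.add_mem _ ?_ ?_)
      · exact Submodule.smul_mono_left hle (map_mem_smul_top _ (d_mem vs j (j + 1) rfl _))
      · exact Submodule.smul_mem_smul (Ideal.subset_span (List.mem_cons_self ..)) trivial
      · exact Submodule.smul_mono_left hle (map_mem_smul_top _ (d_mem vs i j hij _))

/-- The top generator. -/
noncomputable def gen : ∀ (vs : List M) (i : ℤ), i + vs.length = 0 → (kc γ vs).X i
  | [], i, h => (show i = 0 by simpa using h) ▸ (unitIso γ).inv.hom (1 : Q)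
  | v :: vs, i, h => (in₁ γ v vs i (i + 1) rfl).hom (gen vs (i + 1) (by simp at h ⊢; omega))

lemma phi_gen : ∀ (vs : List M) (i : ℤ) (h : i + vs.length = 0),
    phi γ vs i (gen γ vs i h) = (vs.map (ExteriorAlgebra.ι Q)).prod
  | [], i, h => by
      obtain rfl : i = 0 := by simpa using h
      exact phi_unit γ []
  | v :: vs, i, h => by
      rw [phi_cons γ v vs i (i + 1) rfl, List.map_cons, List.prod_cons]
      show ExteriorAlgebra.ι Q v * phi γ vs (i + 1) ((pr₁ γ v vs i _ rfl).hom ((in₁ γ v vs i _ rfl).hom _)) +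
        phi γ vs i ((pr₂ γ v vs i).hom ((in₁ γ v vs i _ rfl).hom _)) = _
      rw [pr₁_in₁, pr₂_in₁, map_zero, add_zero, phi_gen vs (i + 1)]

lemma exists_coord : ∀ (vs : List M) (i : ℤ) (h : i + vs.length = 0),
    ∃ τ : (kc γ vs).X i →ₗ[Q] Q, τ (gen γ vs i h) = 1
  | [], i, h => by
      obtain rfl : i = 0 := by simpa using h
      exact ⟨(unitIso γ).hom.hom, congrArg (fun g => g.hom (1 : Q)) (unitIso γ).inv_hom_id⟩
  | v :: vs, i, h => by
      obtain ⟨τ, hτ⟩ := exists_coord vs (i + 1) (by simp at h ⊢; omega)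
      refine ⟨τ.comp (pr₁ γ v vs i (i + 1) rfl).hom, ?_⟩
      show τ ((pr₁ γ v vs i _ rfl).hom ((in₁ γ v vs i _ rfl).hom _)) = 1
      rw [pr₁_in₁]
      exact hτ

lemma algebraMapInv_contractLeft_mem (a : ExteriorAlgebra Q M) :
    ExteriorAlgebra.algebraMapInv (CliffordAlgebra.contractLeft γ a) ∈ LinearMap.range γ := by
  induction a using CliffordAlgebra.left_induction with
  | algebraMap r =>
    rw [CliffordAlgebra.contractLeft_algebraMap, map_zero]
    exact Submodule.zero_mem _
  | add a b ha hb => rw [map_add, map_add]; exact Submodule.add_mem _ ha hb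
  | ι_mul b v _ =>
    have h0 : ExteriorAlgebra.algebraMapInv (CliffordAlgebra.ι (0 : QuadraticForm Q M) v) = (0 : Q) := by
      show ExteriorAlgebra.algebraMapInv (ExteriorAlgebra.ι Q v) = 0
      simp [ExteriorAlgebra.algebraMapInv]
    rw [CliffordAlgebra.contractLeft_ι_mul, map_sub, map_smul, map_mul, h0, zero_mul, sub_zero,
      smul_eq_mul]
    exact ⟨ExteriorAlgebra.algebraMapInv b • v, by rw [map_smul, smul_eq_mul, mul_comm]⟩

set_option maxHeartbeats 400000 in
/-- Modulo the values of `γ` on `vs`, an element multiplying the image of `γ` into them is a multiple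
of any linear form on the wedge of `vs`. -/
theorem exists_linearForm [Module.Free Q (ExteriorAlgebra Q M)] (vs : List M)
    (hreg : LCI.IsKoszulRegularSeq Q (vs.map γ)) (x : Q)
    (hx : ∀ m : M, x * γ m ∈ Ideal.span {b | b ∈ vs.map γ}) :
    ∃ L : ExteriorAlgebra Q M →ₗ[Q] Q,
      x - L (vs.map (ExteriorAlgebra.ι Q)).prod ∈ Ideal.span {b | b ∈ vs.map γ} := by
  classical
  let K := kc γ vs
  let I := Ideal.span {b | b ∈ vs.map γ}
  let D := CliffordAlgebra.contractLeft (Q := (0 : QuadraticForm Q M)) γ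
  have hex : ∀ i j k : ℤ, i + 1 = j → j + 1 = k → j ≠ 0 → ∀ y : K.X j,
      (K.d j k).hom y = 0 → ∃ z, (K.d i j).hom z = y := by
    intro i j k hij hjk hj y hy
    exact (ShortComplex.moduleCat_exact_iff _).1 ((K.exactAt_iff' i j k (by simp; omega)
      (by simp; omega)).1 ((K.exactAt_iff_isZero_homology j).2 (hreg j hj))) y hy
  have hdd : ∀ i j k : ℤ, ∀ y, (K.d j k).hom ((K.d i j).hom y) = 0 := fun i j k y =>
    congrArg (fun g => g.hom y) (K.d_comp_d i j k)
  have key : ∀ p : ℕ, ∀ i j : ℤ, i + p = 0 → i + 1 = j →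
      ∃ (ψ : ExteriorAlgebra Q M →ₗ[Q] K.X i) (h : K.X j →ₗ[Q] K.X i),
        (∀ a, ψ (D a) ∈ LinearMap.range (K.d (i - 1) i).hom) ∧
        ∀ y, ψ (phi γ vs i y) - x • y - h ((K.d i j).hom y) ∈
          LinearMap.range (K.d (i - 1) i).hom := by
    intro p
    induction p with
    | zero =>
      intro i j hi hij
      obtain rfl : i = 0 := by simpa using hi
      refine ⟨(LinearMap.toSpanSingleton Q _ (x • unit γ vs)).comp
        (ExteriorAlgebra.algebraMapInv).toLinearMap, 0, fun a => ?_, fun y => ?_⟩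
      · show ExteriorAlgebra.algebraMapInv (D a) • x • unit γ vs ∈ _
        obtain ⟨m, hm⟩ := algebraMapInv_contractLeft_mem γ a
        rw [← hm, smul_smul, mul_comm]
        exact smul_unit_mem_range γ vs _ (hx m)
      · obtain ⟨r, rfl⟩ := exists_smul_unit γ vs y
        rw [map_smul, phi_unit]
        show ExteriorAlgebra.algebraMapInv (r • (1 : ExteriorAlgebra Q M)) • x • unit γ vs -
          x • r • unit γ vs - 0 ∈ _
        rw [map_smul, map_one, smul_eq_mul, mul_one, smul_comm, sub_self, sub_zero]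
        exact Submodule.zero_mem _
    | succ p ih =>
      intro i j hi hij
      obtain ⟨ψ, h, hA, hB⟩ := ih j (j + 1) (by push_cast at hi; omega) rfl
      obtain rfl : i = j - 1 := by omega
      -- lift `ψ ∘ D`
      obtain ⟨ψ', hψ'⟩ := Module.projective_lifting_property (K.d (j - 1) j).hom.rangeRestrict
        ((ψ.comp D).codRestrict _ hA) (LinearMap.surjective_rangeRestrict _)
      have hψ : ∀ a, (K.d (j - 1) j).hom (ψ' a) = ψ (D a) := fun a =>
        congrArg Subtype.val (LinearMap.congr_fun hψ' a)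
      -- lift the homotopy
      let ε : K.X j →ₗ[Q] K.X j :=
        ψ.comp (phi γ vs j) - x • LinearMap.id - h.comp (K.d j (j + 1)).hom
      have hε : ∀ y, ε y ∈ LinearMap.range (K.d (j - 1) j).hom := hB
      haveI : Module.Free Q (K.X j) := free_kc γ vs j
      obtain ⟨h', hh'⟩ := Module.projective_lifting_property (K.d (j - 1) j).hom.rangeRestrict
        (ε.codRestrict _ hε) (LinearMap.surjective_rangeRestrict _)
      have hh : ∀ y, (K.d (j - 1) j).hom (h' y) = ψ (phi γ vs j y) - x • y -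
          h ((K.d j (j + 1)).hom y) := fun y =>
        congrArg Subtype.val (LinearMap.congr_fun hh' y)
      refine ⟨ψ', h', fun a => ?_, fun y => ?_⟩
      · refine LinearMap.mem_range.2 (hex (j - 1 - 1) (j - 1) j (by omega) (by omega) (by omega) _ ?_)
        rw [hψ, CliffordAlgebra.contractLeft_contractLeft, map_zero]
      · refine LinearMap.mem_range.2 (hex (j - 1 - 1) (j - 1) j (by omega) (by omega) (by omega) _ ?_)
        rw [map_sub, map_sub, map_smul, hψ, hh, ← phi_d γ vs (j - 1) j (by omega),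
          hdd (j - 1) j (j + 1), map_zero]
        abel
  obtain ⟨ψ, h, -, hB⟩ := key vs.length (-(vs.length : ℤ)) (-(vs.length : ℤ) + 1) (by omega) rfl
  let i : ℤ := -(vs.length : ℤ)
  have hi : i + vs.length = 0 := by omega
  let e := gen γ vs i hi
  obtain ⟨τ, hτ⟩ := exists_coord γ vs i hi
  obtain ⟨z, hz⟩ := hB e
  rw [eq_zero_out γ vs (i - 1) (Or.inr (by omega)) z, map_zero] at hz
  refine ⟨τ.comp ψ, ?_⟩
  have h1 : x • e - ψ (phi γ vs i e) = -h ((K.d i (i + 1)).hom e) :=
    eq_neg_of_add_eq_zero_left (by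
      rw [show (0 : K.X i) = -(ψ (phi γ vs i e) - x • e - h ((K.d i (i + 1)).hom e)) by
        rw [← hz, neg_zero]]
      abel)
  have h2 := map_mem_smul_top τ (Submodule.neg_mem _ (map_mem_smul_top h (d_mem γ vs i (i + 1) rfl e)))
  rw [← h1, map_sub, map_smul, hτ] at h2
  simp only [smul_eq_mul, mul_one, Ideal.mul_top] at h2
  rw [show phi γ vs i e = _ from phi_gen γ vs i hi] at h2
  exact h2

end GrothLib.KoszulColon
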