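import Groth.Agent.Lib.KoszulColon.Basic
import Groth.Agent.Lib.KoszulColon.BaseChange
import Mathlib.LinearAlgebra.Matrix.NonsingularInverse
import Mathlib.RingTheory.TensorProduct.Maps
import Mathlib.LinearAlgebra.TensorProduct.RightExactness

/-!
# Colon ideals and the diagonal of a relative complete intersection
-/

universe u

namespace GrothLib.KoszulColon

/-- The product of vectors in the top degree is a multiple of the determinant. -/
lemma prod_ι_eq_det {Q : Type u} [CommRing Q] {n : ℕ} (c : Matrix (Fin n) (Fin n) Q) :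
    ((List.ofFn fun i => c i).map (ExteriorAlgebra.ι Q)).prod =
      c.det • ExteriorAlgebra.ιMulti Q n (Pi.basisFun Q (Fin n)) := by
  let b := Pi.basisFun Q (Fin n)
  have h : ExteriorAlgebra.ιMulti Q n =
      (LinearMap.toSpanSingleton Q _ (ExteriorAlgebra.ιMulti Q n b)).compAlternatingMap b.det := by
    refine Module.Basis.ext_alternating b fun v hv => ?_
    let σ := Equiv.ofBijective v (Finite.injective_iff_bijective.1 hv)
    have hσ : (fun i => b (v i)) = b ∘ σ := rfl
    rw [hσ, LinearMap.compAlternatingMap_apply, AlternatingMap.map_perm, AlternatingMap.map_perm,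
      Module.Basis.det_self, LinearMap.toSpanSingleton_apply, smul_one_smul]
  rw [List.map_ofFn]
  show (List.ofFn fun i => ExteriorAlgebra.ι Q (c i)).prod = _
  rw [← ExteriorAlgebra.ιMulti_apply]
  refine (congrArg (fun φ : (Fin n → Q) [⋀^Fin n]→ₗ[Q] ExteriorAlgebra Q (Fin n → Q) => φ c) h).trans ?_
  rw [LinearMap.compAlternatingMap_apply, LinearMap.toSpanSingleton_apply]
  congr 1
  show (Pi.basisFun Q (Fin n)).det c = c.det
  rw [Pi.basisFun_det]
  rfl

/-- Wiebe's theorem: the colon ideal of `f = c g` by `g` is `(f) + (det c)`. -/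
theorem mem_colon_iff {Q : Type u} [CommRing Q] {n : ℕ} (f g : Fin n → Q)
    (c : Matrix (Fin n) (Fin n) Q) (hc : ∀ i, f i = ∑ j, c i j * g j)
    (hf : LCI.IsKoszulRegularSeq Q (List.ofFn f)) (x : Q) :
    (∀ j, x * g j ∈ Ideal.span (Set.range f)) ↔
      x ∈ Ideal.span (Set.range f) ⊔ Ideal.span {c.det} := by
  have hdet : ∀ j, c.det * g j ∈ Ideal.span (Set.range f) := by
    intro j
    have h1 : c.adjugate.mulVec (c.mulVec g) = c.det • g := by
      rw [Matrix.mulVec_mulVec, Matrix.adjugate_mul]
      simp [Matrix.smul_mulVec]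
    have h2 := congrFun h1 j
    rw [Pi.smul_apply, smul_eq_mul] at h2
    rw [← h2]
    show (∑ i, c.adjugate j i * c.mulVec g i) ∈ Ideal.span (Set.range f)
    refine Ideal.sum_mem _ fun i _ => Ideal.mul_mem_left _ _ ?_
    exact Ideal.subset_span ⟨i, (hc i).trans rfl⟩
  constructor
  · intro hx
    let γ : Module.Dual Q (Fin n → Q) := ∑ j, g j • LinearMap.proj j
    have hγ : ∀ v, γ v = ∑ j, v j * g j := fun v => by
      simp [γ, mul_comm]
    have hmap : (List.ofFn fun i => c i).map γ = List.ofFn f := by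
      rw [List.map_ofFn]
      congr 1
      exact funext fun i => (hγ _).trans (hc i).symm
    have hspan : Ideal.span {b | b ∈ (List.ofFn fun i => c i).map γ} = Ideal.span (Set.range f) := by
      rw [hmap]
      congr 1
      exact Set.ext fun b => List.mem_ofFn' f b
    haveI : Module.Free Q (ExteriorAlgebra Q (Fin n → Q)) :=
      Module.Free.of_basis (Pi.basisFun Q (Fin n)).ExteriorAlgebra
    obtain ⟨L, hL⟩ := exists_linearForm γ (List.ofFn fun i => c i) (hmap ▸ hf) x (fun v => by
      rw [hspan, hγ, Finset.mul_sum]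
      refine Ideal.sum_mem _ fun j _ => ?_
      rw [mul_left_comm]
      exact Ideal.mul_mem_left _ _ (hx j))
    rw [hspan, prod_ι_eq_det, map_smul, smul_eq_mul] at hL
    refine Submodule.mem_sup.2 ⟨_, hL, _, Ideal.mul_mem_right _ _ (Ideal.mem_span_singleton_self _),
      sub_add_cancel _ _⟩
  · intro hx j
    obtain ⟨a, ha, b, hb, rfl⟩ := Submodule.mem_sup.1 hx
    obtain ⟨r, rfl⟩ := Ideal.mem_span_singleton'.1 hb
    rw [add_mul, mul_assoc]
    exact add_mem (Ideal.mul_mem_right _ _ ha) (Ideal.mul_mem_left _ _ (hdet j))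

open TensorProduct

/-- The annihilator of the diagonal of a flat relative complete intersection. -/
theorem annihilator_diagonal {A P : Type u} [CommRing A] [CommRing P] [Algebra A P]
    {n : ℕ} (f : Fin n → P) (hf : LCI.IsKoszulRegularSeq P (List.ofFn f))
    [Module.Flat A (P ⧸ Ideal.span (Set.range f))]
    (g : Fin n → P ⊗[A] (P ⧸ Ideal.span (Set.range f)))
    (hgker : Ideal.span (Set.range g) = RingHom.ker (Algebra.TensorProduct.productMap
      (Ideal.Quotient.mkₐ A (Ideal.span (Set.range f))) (AlgHom.id A (P ⧸ Ideal.span (Set.range f)))))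
    (c : Matrix (Fin n) (Fin n) (P ⊗[A] (P ⧸ Ideal.span (Set.range f))))
    (hc : ∀ i, f i ⊗ₜ[A] (1 : P ⧸ Ideal.span (Set.range f)) = ∑ j, c i j * g j) :
    Submodule.annihilator (RingHom.ker
        (Algebra.TensorProduct.lmul' (S := P ⧸ Ideal.span (Set.range f)) A)) =
      Ideal.span {Algebra.TensorProduct.map (Ideal.Quotient.mkₐ A (Ideal.span (Set.range f)))
        (AlgHom.id A (P ⧸ Ideal.span (Set.range f))) (Matrix.det c)} := by
  let I := Ideal.span (Set.range f)
  let B := P ⧸ I
  let π : P ⊗[A] B →ₐ[A] B ⊗[A] B :=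
    Algebra.TensorProduct.map (Ideal.Quotient.mkₐ A I) (AlgHom.id A B)
  let F : Fin n → P ⊗[A] B := fun i => f i ⊗ₜ 1
  have hπ : Function.Surjective π :=
    TensorProduct.map_surjective (Ideal.Quotient.mkₐ_surjective A I)
      (show Function.Surjective (AlgHom.id A B).toLinearMap from Function.surjective_id)
  have hker : RingHom.ker π = Ideal.span (Set.range F) := by
    refine ((Algebra.TensorProduct.rTensor_ker (Ideal.Quotient.mkₐ A I)
      (Ideal.Quotient.mkₐ_surjective A I))).trans ?_
    rw [show RingHom.ker (Ideal.Quotient.mkₐ A I) = I from Ideal.Quotient.mkₐ_ker A I,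
      Ideal.map_span, ← Set.range_comp]
    rfl
  have hF : LCI.IsKoszulRegularSeq (P ⊗[A] B) (List.ofFn F) := by
    have h := isKoszulRegularSeq_map (Algebra.TensorProduct.includeLeftRingHom (R := A) (A := P) (B := B))
      (RingHom.flat_algebraMap_iff.2 (inferInstanceAs (Module.Flat P (P ⊗[A] B)))) _ hf
    rwa [List.map_ofFn] at h
  have hcomp : (Algebra.TensorProduct.lmul' (S := B) A).comp π =
      Algebra.TensorProduct.productMap (Ideal.Quotient.mkₐ A I) (AlgHom.id A B) := by
    ext <;> simp [π]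
  have hmul : RingHom.ker (Algebra.TensorProduct.lmul' (S := B) A) =
      Ideal.span (Set.range (π ∘ g)) := by
    rw [Set.range_comp]
    rw [show Ideal.span (π '' Set.range g) = (Ideal.span (Set.range g)).map π from
      (Ideal.map_span π _).symm, hgker, ← hcomp]
    refine le_antisymm (fun y hy => ?_) (Ideal.map_le_iff_le_comap.2 fun y hy => hy)
    obtain ⟨y, rfl⟩ := hπ y
    exact Ideal.mem_map_of_mem _ hy
  show Submodule.annihilator (RingHom.ker (Algebra.TensorProduct.lmul' (S := B) A)) =
    Ideal.span {π c.det}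
  ext y
  obtain ⟨x, rfl⟩ := hπ y
  rw [hmul, Ideal.span, Submodule.mem_annihilator_span]
  have h1 : (∀ m : Set.range (π ∘ g), π x • (m : B ⊗[A] B) = 0) ↔
      ∀ j, x * g j ∈ Ideal.span (Set.range F) := by
    simp only [Subtype.forall, Set.forall_mem_range, Function.comp_apply, smul_eq_mul, ← map_mul,
      ← hker, RingHom.mem_ker]
  rw [h1, mem_colon_iff F g c hc hF x, ← hker, Ideal.mem_span_singleton']
  constructor
  · intro h
    obtain ⟨a, ha, b, hb, rfl⟩ := Submodule.mem_sup.1 h
    obtain ⟨r, rfl⟩ := Ideal.mem_span_singleton'.1 hb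
    exact ⟨π r, by rw [map_add, show π a = 0 from ha, zero_add, map_mul]⟩
  · rintro ⟨r, hr⟩
    obtain ⟨r, rfl⟩ := hπ r
    refine Submodule.mem_sup.2 ⟨x - r * c.det, ?_, r * c.det,
      Ideal.mul_mem_left _ _ (Ideal.mem_span_singleton_self _), sub_add_cancel _ _⟩
    show π (x - r * c.det) = 0
    rw [map_sub, map_mul, hr, sub_self]

end GrothLib.KoszulColon
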